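import Groth.Agent.Dix.K839.SecCls
import Groth.Agent.Sga5.H849.Diag
import Groth.Agent.Sga5.H848.PullMu
import Groth.Agent.Sga4B.R2MuSec
import Groth.Agent.S5062
import Groth.Agent.S3095
import Groth.Agent.S3479
import Groth.Agent.S0227
import Groth.Agent.S0231
import Groth.Agent.Dix.KummerLES

/-!
# Torsion in `H²(X, 𝔾_m)` for smooth proper curves over strictly henselian rings
-/

set_option autoImplicit false
universe u
open CategoryTheory CategoryTheory.Limits AlgebraicGeometry Opposite Abelian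
open scoped Groth.Agent.Etcore.EtInst Groth.Agent.Etcore.HC
open Groth.Agent.Etcore.EtInst Groth.Agent.Etcore.PullCoh Groth.Agent.Etcore.HpullCalc
open Groth.Agent.Etcore.HC
open Groth.Agent.Etcore.Kappa228 (HM HM_comp HM_HM HM_ι pullMu pullMu_ι pullGm KS)
open Groth.Agent.Sga4B.KummerH1 (delta kummer_shortExact)

namespace K839.BrTors

attribute [local instance] Groth.Agent.S0101.result

variable {X Y : Scheme.{u}}

/-- The Kummer connecting maps are natural. -/
theorem HM_delta (f : X ⟶ Y) (n : ℕ) (hX : Epi (EtCoh.powMap X n)) (hY : Epi (EtCoh.powMap Y n))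
    (x : HH Y (EtCoh.Gm Y) 1) :
    HM n f 2 (delta Y n hY 1 x) = delta X n hX 1 (Groth.Agent.Etcore.Kappa228.HG f 1 x) := by
  let φ : (KS n Y).map (EtCoh.pull f) ⟶ KS n X :=
    { τ₁ := pullMu n f
      τ₂ := pullGm f
      τ₃ := pullGm f
      comm₁₂ := pullMu_ι n f
      comm₂₃ := by
        change pullGm f ≫ (n • 𝟙 (EtCoh.Gm X)) = (EtCoh.pull f).map (n • 𝟙 (EtCoh.Gm Y)) ≫ pullGm f
        rw [Functor.map_nsmul, Preadditive.comp_nsmul, Preadditive.nsmul_comp,
          CategoryTheory.Functor.map_id, Category.comp_id, Category.id_comp] }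
  exact hpl_extClass f (kummer_shortExact Y n hY) (kummer_shortExact X n hX) φ (rfl : 1 + 1 = 2) x

theorem HM_injective (f : X ⟶ Y) (n : ℕ) (hn : IsUnit (n : Γ(Y, ⊤))) (q : ℕ)
    (h : Function.Injective (hp f (EtCoh.mu Y n) q)) : Function.Injective (HM n f q) := by
  have := Groth.Agent.Sga5.H848.PullMu.isIso_pullMu f n hn
  intro a b hab
  apply h
  exact (HHmap_bijective (pullMu n f) q).1 hab

theorem HG_eq (f : X ⟶ Y) (q : ℕ) (x : HH Y (EtCoh.Gm Y) q) :
    Groth.Agent.Etcore.Kappa228.HG f q x = Groth.Agent.Etcore.KummerCls.HG f q x := rfl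

section Fibre

open Groth.Agent.CurvesA Groth.Agent.CurvesA.DivCls Groth.Agent.CurvesA.CurveDeg
open Groth.Agent.CurvesA.DivPoint (IsDed)

/-- Torsion classes of `H²(X, 𝔾_m)` vanish if `H²(X, μ_n) → H²(C, μ_n)` is injective for a smooth proper curve `C`
over an algebraically closed field with a morphism `c : C ⟶ X` such that some class in `H¹(X, 𝔾_m)` restricts to the
class of a point. -/
theorem eq_zero_of_fibre {K : Type u} [Field K] [IsAlgClosed K] {C : Scheme.{u}} [IsIntegral C]
    (b : C ⟶ Spec (CommRingCat.of K)) [IsProper b] [SmoothOfRelativeDimension 1 b] [IsLocallyNoetherian C]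
    [CompactSpace C] (c : C ⟶ X) (n : ℕ) (hnK : (n : K) ≠ 0) (hn : IsUnit (n : Γ(X, ⊤)))
    (hinj : Function.Injective (HM n c 2)) (L : HH X (EtCoh.Gm X) 1) (hC : IsDed C)
    (P : {x : C // x ≠ genericPoint C})
    (hL : Groth.Agent.Etcore.KummerCls.HG c 1 L = divCls hC (Finsupp.single P 1))
    (x : HH X (EtCoh.Gm X) 2) (hx : n • x = 0) : x = 0 := by
  have hsm : Smooth b := SmoothOfRelativeDimension.smooth 1 b
  have hdim := Groth.Agent.Sga5.H849.Diag.dim_eq b
  have hnC : IsUnit (n : Γ(C, ⊤)) := by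
    have := hn.map c.appTop.hom
    rwa [map_natCast] at this
  have hX : Epi (EtCoh.powMap X n) := Groth.Agent.S0108.result X n hn
  have hC' : Epi (EtCoh.powMap C n) := Groth.Agent.S0108.result C n hnC
  obtain ⟨y, hy⟩ := Groth.Agent.Dix.KummerLES.exists_mu_of_nsmul_eq_zero hn 2 x hx
  have hH2 : Subsingleton (HH C (EtCoh.Gm C) 2) := Groth.Agent.S0227.result K C b hdim 2 le_rfl
  obtain ⟨M, hM⟩ := Groth.Agent.Sga4B.KummerH1.delta_surjective C n hC' 1 hH2 (HM n c 2 y)
  obtain ⟨D, rfl⟩ := divCls_surjective hC (Groth.Agent.S0231.result K C b hdim 1 le_rfl) M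
  obtain ⟨w, hw⟩ := PicMod.exists_nsmul b hC hdim n hnK (D - deg C D • Finsupp.single P 1) (by
    rw [map_sub, map_zsmul, deg_single, smul_eq_mul, mul_one, sub_self]
    exact dvd_zero _)
  have h1 : divCls hC D = n • w + deg C D • Groth.Agent.Etcore.KummerCls.HG c 1 L := by
    rw [hw, hL, map_sub, map_zsmul, sub_add_cancel]
  have h2 : HM n c 2 y = HM n c 2 (delta X n hX 1 (deg C D • L)) := by
    rw [HM_delta c n hC' hX, ← hM, HG_eq, map_zsmul, h1, map_add]
    have h3 : delta C n hC' 1 (n • w) = 0 :=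
      Groth.Agent.Sga4B.KummerH1.conn_nsmul _ _ n _ (kummer_shortExact C n hC') 1 w
    rw [h3, zero_add]
  have h4 := hinj h2
  rw [← hy, h4]
  exact Groth.Agent.Dix.KummerLES.g_δ_comp_ι (kummer_shortExact X n hX) 1 (deg C D • L)

end Fibre

end K839.BrTors
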