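import Groth.Agent.Sga5.H849.Val
import Groth.Agent.Sga4h.BidConSky48
import Groth.Agent.Sga4B.R2MuClass
import Groth.Agent.Divis.EffCartier

/-!
# The class in `H¹(Y, 𝔾_m)` of an effective Cartier divisor

`i : D ⟶ Y` a closed immersion with effective Cartier ideal, `j : U ⟶ Y` the open immersion of its complement.
* `mono_gmUnit`: `G_m ⟶ j_* G_m` is a monomorphism;
* `exists_sec`: there is a section `q` of `j_* G_m / G_m` of which the local equations of `D` are local lifts;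
* `HG_cls_eq`: the pullback of the class of `q` to a Dedekind scheme is the class of the pulled back divisor.
-/

set_option autoImplicit false
universe u
open CategoryTheory CategoryTheory.Limits AlgebraicGeometry Opposite Abelian
open scoped Groth.Agent.Etcore.EtInst Groth.Agent.Etcore.HC
open Groth.Agent.Etcore.EtInst Groth.Agent.Etcore.PullCoh Groth.Agent.Etcore.HpullCalc
open Groth.Agent.Etcore.HC Groth.Agent.Etcore.GmFun Groth.Agent.Etcore.KummerCls
open Groth.Agent.Divis.CartierBasic Groth.Agent.Divis.CartierStalk Groth.Agent.Sga4h.DivLocal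
  Groth.Agent.Sga4h.GmDiv
open Groth.Agent.Sga4h.MuConst (gmVal gmMk gmVal_injective)

namespace K839.EffCls

open Groth.Agent.CurvesA Groth.Agent.CurvesA.PtFun
open Groth.Agent.CurvesA.DivPoint (IsDed)
open Groth.Agent.CurvesA.OrdMap (jGm ordMap ngp toUnit)
open Groth.Agent.CurvesA.DivSheaf (dv dv_ι gmMap_dv seq_shortExact)
open Groth.Agent.CurvesA.DivTop (divHom divEquiv toPt val)
open Groth.Agent.Sga5.H849.OpenCls
open Groth.Agent.Sga5.H849.RegCls (gmVal_gmUnit)

variable {Y D U : Scheme.{u}} {i : D ⟶ Y} {j : U ⟶ Y} [IsOpenImmersion j] [IsClosedImmersion i]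
  (hE : BlowUp.IsEffCartierIdeal i.ker) (hU : Set.range j = (Set.range i)ᶜ)

omit [IsOpenImmersion j] in
include hU in
theorem range_qV (V : Y.Etale) : Set.range (qV j V) = ((JV i V).support : Set V.left)ᶜ := by
  ext v
  have h1 : v ∈ Set.range (pullback.fst V.hom j) ↔ V.hom v ∈ Set.range j := by
    rw [Scheme.Pullback.range_fst]
    exact Iff.rfl
  have h3 : v ∈ (JV i V).support ↔ V.hom v ∈ Set.range i := by
    have h4 : (i.ker.support : Set Y) = Set.range i := by
      rw [Scheme.Hom.support_ker, i.isClosedEmbedding.isClosed_range.closure_eq]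
    unfold JV
    rw [Scheme.IdealSheafData.support_comap, ← h4]
    rfl
  have h2 : v ∈ ((JV i V).support : Set V.left)ᶜ ↔ V.hom v ∉ Set.range i := not_congr h3
  rw [h2]
  refine h1.trans ?_
  rw [hU]
  exact Iff.rfl

omit [IsClosedImmersion i] in
include hE in
theorem isEff_JV (V : Y.Etale) : BlowUp.IsEffCartierIdeal (JV i V) := by
  have hV : Etale V.hom := V.prop
  have : Flat V.hom := inferInstance
  exact Groth.Agent.Divis.EffCartier.isEff_comap_flat hE V.hom

include hE hU in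
theorem mono_gmUnit : Mono (gmUnit j) := by
  have h : Mono ((sheafToPresheaf Y.smallEtaleTopology AddCommGrpCat.{u + 1}).map (gmUnit j)) := by
    rw [NatTrans.mono_iff_mono_app]
    intro V
    rw [AddCommGrpCat.mono_iff_injective]
    intro s t hst
    have h1 := congrArg (gmVal (V := U) (W := (EtCoh.bc j).obj V.unop)) hst
    have h2 : Units.map (qV j V.unop).appTop.hom.toMonoidHom (gmVal s) =
        Units.map (qV j V.unop).appTop.hom.toMonoidHom (gmVal t) :=
      (gmVal_gmUnit V.unop s).symm.trans (h1.trans (gmVal_gmUnit V.unop t))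
    apply gmVal_injective
    apply Units.ext
    exact app_injective (qV j V.unop) (range_qV hU V.unop) (isEff_JV hE V.unop) ⊤
      (congrArg Units.val h2)
  exact (sheafToPresheaf Y.smallEtaleTopology AddCommGrpCat.{u + 1}).mono_of_mono_map h

/-- Equations of effective Cartier ideals have regular germs. -/
theorem nz_of_isEqn {V : Scheme.{u}} {J : V.IdealSheafData} (hJ : BlowUp.IsEffCartierIdeal J) {W : V.Opens}
    {f : Γ(V, W)} (hf : IsEqn J W f) : Groth.Agent.Sga4B.R2Mu.NZ f := by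
  intro v hv
  obtain ⟨g, hg, hg'⟩ := exists_stalkIdeal_eq_span hJ v
  rw [hf v hv] at hg'
  obtain ⟨a, ha⟩ := Ideal.mem_span_singleton'.1 (hg'.symm ▸ Ideal.mem_span_singleton_self g :
    g ∈ Ideal.span {V.presheaf.germ W v hv f})
  rw [mem_nonZeroDivisors_iff_right] at hg ⊢
  intro x hx
  apply hg
  rw [← ha, mul_left_comm, hx, mul_zero]

omit [IsClosedImmersion i] in
include hU in
theorem isUnit_eqn [IsClosedImmersion i] {V : Y.Etale} {f : Γ(V.left, ⊤)} (hf : IsEqn (JV i V) ⊤ f) :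
    IsUnit ((qV j V).appTop f : Γ(((EtCoh.bc j).obj V).left, ⊤)) :=
  hf.isUnit_app (qV j V) (range_qV hU V)

/-- The section of `j_* G_m` given by an equation. -/
noncomputable def eqSec {V : Y.Etale} {f : Γ(V.left, ⊤)} (hf : IsEqn (JV i V) ⊤ f) :
    EtCoh.sect ((EtCoh.push j).obj (EtCoh.Gm U)) V :=
  gmMk (V := U) (W := (EtCoh.bc j).obj V) (isUnit_eqn hU hf).unit

theorem gmVal_eqSec {V : Y.Etale} {f : Γ(V.left, ⊤)} (hf : IsEqn (JV i V) ⊤ f) :
    ((gmVal (V := U) (W := (EtCoh.bc j).obj V) (eqSec hU hf) : (Γ(((EtCoh.bc j).obj V).left, ⊤))ˣ) :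
      Γ(((EtCoh.bc j).obj V).left, ⊤)) = (qV j V).appTop f := rfl

omit [IsOpenImmersion j] [IsClosedImmersion i] in
include hE in
/-- Two lifts given by equations have the same image in `j_* G_m / G_m`. -/
theorem π_eq {V : Y.Etale} {f f' : Γ(V.left, ⊤)} (hf : IsEqn (JV i V) ⊤ f) (hf' : IsEqn (JV i V) ⊤ f')
    (s s' : EtCoh.sect ((EtCoh.push j).obj (EtCoh.Gm U)) V)
    (hs : ((gmVal (V := U) (W := (EtCoh.bc j).obj V) s : (Γ(((EtCoh.bc j).obj V).left, ⊤))ˣ) :
      Γ(((EtCoh.bc j).obj V).left, ⊤)) = (qV j V).appTop f)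
    (hs' : ((gmVal (V := U) (W := (EtCoh.bc j).obj V) s' : (Γ(((EtCoh.bc j).obj V).left, ⊤))ˣ) :
      Γ(((EtCoh.bc j).obj V).left, ⊤)) = (qV j V).appTop f') :
    (cokernel.π (gmUnit j)).hom.app (op V) s = (cokernel.π (gmUnit j)).hom.app (op V) s' := by
  obtain ⟨w, hw⟩ := Groth.Agent.Sga4B.R2Mu.exists_ratio hf hf' (nz_of_isEqn (isEff_JV hE V) hf)
    (nz_of_isEqn (isEff_JV hE V) hf')
  have h1 : s = (gmUnit j).hom.app (op V) (gmMk w) + s' := by
    apply gmVal_injective (V := U) (W := (EtCoh.bc j).obj V)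
    apply Units.ext
    have h2 : gmVal (V := U) (W := (EtCoh.bc j).obj V) ((gmUnit j).hom.app (op V) (gmMk w) + s') =
        gmVal (V := U) (W := (EtCoh.bc j).obj V) ((gmUnit j).hom.app (op V) (gmMk w)) *
        gmVal (V := U) (W := (EtCoh.bc j).obj V) s' := rfl
    rw [h2, Units.val_mul, gmVal_gmUnit, hs, hs', ← hw, map_mul]
    rfl
  rw [h1, map_add]
  have h3 : (cokernel.π (gmUnit j)).hom.app (op V) ((gmUnit j).hom.app (op V) (gmMk w)) = 0 := by
    have h4 := congrArg (fun a => a.hom.app (op V) (gmMk w)) (cokernel.condition (gmUnit j))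
    exact h4
  rw [h3, zero_add]

omit [IsOpenImmersion j] in
theorem gmVal_push_map {V V' : Y.Etale} (g : V' ⟶ V)
    (s : EtCoh.sect ((EtCoh.push j).obj (EtCoh.Gm U)) V) :
    gmVal (V := U) (W := (EtCoh.bc j).obj V') (((EtCoh.push j).obj (EtCoh.Gm U)).obj.map g.op s) =
      Units.map ((EtCoh.bc j).map g).left.appTop.hom.toMonoidHom
        (gmVal (V := U) (W := (EtCoh.bc j).obj V) s) := rfl

omit [IsOpenImmersion j] [IsClosedImmersion i] in
theorem isEqn_map {V V' : Y.Etale} (g : V' ⟶ V) {f : Γ(V.left, ⊤)} (hf : IsEqn (JV i V) ⊤ f) :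
    IsEqn (JV i V') ⊤ (g.left.appTop f) := by
  rw [JV_map i g]
  exact hf.comap g.left

omit [IsOpenImmersion j] in
theorem gmVal_map_eq {V V' : Y.Etale} (g : V' ⟶ V) {f : Γ(V.left, ⊤)}
    (s : EtCoh.sect ((EtCoh.push j).obj (EtCoh.Gm U)) V)
    (hs : ((gmVal (V := U) (W := (EtCoh.bc j).obj V) s : (Γ(((EtCoh.bc j).obj V).left, ⊤))ˣ) :
      Γ(((EtCoh.bc j).obj V).left, ⊤)) = (qV j V).appTop f) :
    ((gmVal (V := U) (W := (EtCoh.bc j).obj V') (((EtCoh.push j).obj (EtCoh.Gm U)).obj.map g.op s) :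
      (Γ(((EtCoh.bc j).obj V').left, ⊤))ˣ) : Γ(((EtCoh.bc j).obj V').left, ⊤)) =
      (qV j V').appTop (g.left.appTop f) := by
  have h0 := congrArg Units.val (gmVal_push_map (j := j) g s)
  refine h0.trans ?_
  have h1 : ((EtCoh.bc j).map g).left.appTop ((gmVal (V := U) (W := (EtCoh.bc j).obj V) s :
      (Γ(((EtCoh.bc j).obj V).left, ⊤))ˣ) : Γ(((EtCoh.bc j).obj V).left, ⊤)) =
      ((EtCoh.bc j).map g).left.appTop ((qV j V).appTop f) := congrArg _ hs
  refine h1.trans ?_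
  have h2 : ((EtCoh.bc j).map g).left ≫ qV j V = qV j V' ≫ g.left := (EtCoh.isPullback_bc_map j g).w
  have h3 := congrArg (fun k => k.appTop.hom f) h2
  exact h3

include hE hU in
/-- **The section of `j_* G_m / G_m` attached to an effective Cartier divisor.** -/
theorem exists_sec : ∃ q : EtCoh.sect (cokernel (gmUnit j)) (EtCoh.top Y),
    ∀ (V : Y.Etale) (f : Γ(V.left, ⊤)) (_ : IsEqn (JV i V) ⊤ f)
      (s : EtCoh.sect ((EtCoh.push j).obj (EtCoh.Gm U)) V)
      (_ : ((gmVal (V := U) (W := (EtCoh.bc j).obj V) s : (Γ(((EtCoh.bc j).obj V).left, ⊤))ˣ) :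
        Γ(((EtCoh.bc j).obj V).left, ⊤)) = (qV j V).appTop f),
      (cokernel.π (gmUnit j)).hom.app (op V) s = (cokernel (gmUnit j)).obj.map (toTop V).op q := by
  let ι := Σ V : Y.Etale, {f : Γ(V.left, ⊤) // IsEqn (JV i V) ⊤ f}
  have hcov : ∀ w : (EtCoh.top Y).left, ∃ (a : ι) (v : a.1.left), (toTop a.1).left v = w := by
    intro w
    obtain ⟨W, hxW, -, f, -, hf⟩ := exists_eqn hE ⊤ (v := (w : Y)) trivial
    let V : Y.Etale := Scheme.Etale.mk W.1.ι
    have hle : (⊤ : V.left.Opens) ≤ W.1.ι ⁻¹ᵁ W.1 := by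
      intro z _
      exact z.2
    have hf' : IsEqn (JV i V) ⊤ (res V.left hle (W.1.ι.app W.1 f)) := (hf.comap W.1.ι).mono hle
    refine ⟨⟨V, ⟨_, hf'⟩⟩, ⟨w, hxW⟩, ?_⟩
    have h1 : (toTop V).left ≫ (EtCoh.top Y).hom = V.hom := MorphismProperty.Over.w (toTop V)
    have h2 := congrArg (fun k => k (⟨w, hxW⟩ : W.1)) h1
    exact h2
  obtain ⟨q, hq⟩ := Groth.Agent.Sga4h.BidConSky48.exists_glue (cokernel (gmUnit j)) (U := fun a : ι => a.1)
    (W := EtCoh.top Y) (fun a => toTop a.1) hcov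
    (fun a => (cokernel.π (gmUnit j)).hom.app (op a.1) (eqSec hU a.2.2)) (by
      intro a b Z g h _
      change (cokernel (gmUnit j)).obj.map g.op ((cokernel.π (gmUnit j)).hom.app (op a.1) (eqSec hU a.2.2)) =
        (cokernel (gmUnit j)).obj.map h.op ((cokernel.π (gmUnit j)).hom.app (op b.1) (eqSec hU b.2.2))
      rw [← map_res, ← map_res]
      exact π_eq hE (isEqn_map g a.2.2) (isEqn_map h b.2.2) _ _
        (gmVal_map_eq g _ (gmVal_eqSec hU a.2.2)) (gmVal_map_eq h _ (gmVal_eqSec hU b.2.2)))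
  refine ⟨q, fun V f hf s hs => ?_⟩
  have h1 := hq ⟨V, ⟨f, hf⟩⟩
  refine Eq.trans ?_ h1.symm
  exact π_eq hE hf hf s _ hs (gmVal_eqSec hU hf)

section Curve

variable {C : Scheme.{u}} [IsIntegral C] [IsLocallyNoetherian C] (hC : IsDed C) (t : C ⟶ Y)
  (d : Spec (C.presheaf.stalk (genericPoint C)) ⟶ U)
  (hd : d ≫ j = C.fromSpecStalk (genericPoint C) ≫ t)

include hE hU hC in
/-- **Multiplicities of the pullback of an effective Cartier divisor.** -/
theorem val_pb (q : EtCoh.sect (cokernel (gmUnit j)) (EtCoh.top Y))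
    (hq : ∀ (V : Y.Etale) (f : Γ(V.left, ⊤)) (_ : IsEqn (JV i V) ⊤ f)
      (s : EtCoh.sect ((EtCoh.push j).obj (EtCoh.Gm U)) V)
      (_ : ((gmVal (V := U) (W := (EtCoh.bc j).obj V) s : (Γ(((EtCoh.bc j).obj V).left, ⊤))ˣ) :
        Γ(((EtCoh.bc j).obj V).left, ⊤)) = (qV j V).appTop f),
      (cokernel.π (gmUnit j)).hom.app (op V) s = (cokernel (gmUnit j)).obj.map (toTop V).op q)
    (x : {x : C // x ≠ genericPoint C}) (m : ℕ)
    (hm : (stalkIdeal i.ker (t x.1)).map (t.stalkMap x.1).hom =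
      IsLocalRing.maximalIdeal (C.presheaf.stalk x.1) ^ m) :
    val hC (pb t d hd q) x = m := by
  obtain ⟨W, hxW, -, f, -, hf⟩ := exists_eqn hE ⊤ (v := t x.1) trivial
  let V : Y.Etale := Scheme.Etale.mk W.1.ι
  have hle : (⊤ : V.left.Opens) ≤ W.1.ι ⁻¹ᵁ W.1 := by
    intro z _
    exact z.2
  have hf' : IsEqn (JV i V) ⊤ (res V.left hle (W.1.ι.app W.1 f)) := (hf.comap W.1.ι).mono hle
  obtain ⟨v, -, hv⟩ := Scheme.Pullback.exists_preimage_pullback (f := W.1.ι) (g := t)
    (⟨t x.1, hxW⟩ : W.1) x.1 rfl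
  have hv1 : ((EtCoh.bc t).obj V).hom v = x.1 := hv
  have hv' : ((EtCoh.bc t).obj V).hom v ≠ genericPoint C := by
    rw [hv1]; exact x.2
  rw [Groth.Agent.Sga5.H849.Val.val_pb_eq_ord hC t d hd q V (eqSec hU hf')
    (hq V _ hf' _ (gmVal_eqSec hU hf')) v x hv1 hv']
  exact Groth.Agent.Sga5.H849.Val.ord_θ₂ hC t d hd V hf' _ (gmVal_eqSec hU hf') v x.1 hv1 hv' m hm

include hE hU d hd in
/-- **The pullback to a Dedekind scheme of the class of an effective Cartier divisor.** -/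
theorem HG_cls_eq [Mono (gmUnit j)] [CompactSpace C] (q : EtCoh.sect (cokernel (gmUnit j)) (EtCoh.top Y))
    (hq : ∀ (V : Y.Etale) (f : Γ(V.left, ⊤)) (_ : IsEqn (JV i V) ⊤ f)
      (s : EtCoh.sect ((EtCoh.push j).obj (EtCoh.Gm U)) V)
      (_ : ((gmVal (V := U) (W := (EtCoh.bc j).obj V) s : (Γ(((EtCoh.bc j).obj V).left, ⊤))ˣ) :
        Γ(((EtCoh.bc j).obj V).left, ⊤)) = (qV j V).appTop f),
      (cokernel.π (gmUnit j)).hom.app (op V) s = (cokernel (gmUnit j)).obj.map (toTop V).op q)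
    (E : {x : C // x ≠ genericPoint C} →₀ ℤ)
    (m : {x : C // x ≠ genericPoint C} → ℕ) (hEm : ∀ x, E x = m x)
    (hm : ∀ x : {x : C // x ≠ genericPoint C}, (stalkIdeal i.ker (t x.1)).map (t.stalkMap x.1).hom =
      IsLocalRing.maximalIdeal (C.presheaf.stalk x.1) ^ (m x)) :
    HG t 1 (cls j q) = DivCls.divCls hC E := by
  rw [HG_cls t d hd hC]
  congr 1
  ext x
  rw [hEm, DivTop.divHom_apply]
  exact val_pb hE hU hC t d hd q hq x (m x) (hm x)

end Curve

end K839.EffCls
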