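import Groth.Agent.Dix.K839.EffCls
import Groth.Agent.Sga4B.RelSect
import Groth.Agent.Sga4B.R2MuPt

/-!
# The class of a section of a smooth relative curve

`exists_cls`: `f : X ⟶ S` a separated smooth relative curve with a section `s`. There is a class in `H¹(X, 𝔾_m)`
whose pullback to every geometric fibre which is a Dedekind scheme is the class of the point of the section.
-/

set_option autoImplicit false
universe u
open CategoryTheory CategoryTheory.Limits AlgebraicGeometry Opposite Abelian
open scoped Groth.Agent.Etcore.EtInst Groth.Agent.Etcore.HC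
open Groth.Agent.Etcore.EtInst Groth.Agent.Etcore.PullCoh Groth.Agent.Etcore.HpullCalc
open Groth.Agent.Etcore.HC Groth.Agent.Etcore.GmFun Groth.Agent.Etcore.KummerCls
open Groth.Agent.Divis.CartierBasic Groth.Agent.Divis.CartierStalk

namespace K839.SecCls

open Groth.Agent.CurvesA
open Groth.Agent.CurvesA.DivPoint (IsDed)
open Groth.Agent.Sga5.H849.OpenCls
open Groth.Agent.Sga4B

variable {X S : Scheme.{u}} (f : X ⟶ S) [IsSeparated f] [SmoothOfRelativeDimension 1 f] (s : S ⟶ X)
  (hs : s ≫ f = 𝟙 S)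

section Fibre

variable {f s} {K : Type u} [Field K] {a : Spec (CommRingCat.of K) ⟶ S} {C : Scheme.{u}}
  {c : C ⟶ X} {p : C ⟶ Spec (CommRingCat.of K)} (sq : IsPullback c p f a)
  {z : Spec (CommRingCat.of K) ⟶ C} (hzc : z ≫ c = a ≫ s) (hzp : z ≫ p = 𝟙 _)

include hs sq hzc hzp in
theorem map_stalkIdeal_of_mem (x : C) (hx : x ∈ Set.range z) :
    (stalkIdeal s.ker (c x)).map (c.stalkMap x).hom = IsLocalRing.maximalIdeal (C.presheaf.stalk x) := by
  obtain ⟨V, hV, hyV, t, -, ht⟩ := RelSect.exists_eqn f s hs (c x)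
  rw [← stalkIdeal_comap, ← RelSect.ker_eq_comap hs sq hzc hzp,
    ← RelSect.span_germ_eq hs sq hzc hzp hV ht x hyV]
  exact RelSect.span_germ_eq_maximalIdeal hs sq hzc hzp hV ht x hyV hx

include hs sq hzc hzp in
theorem map_stalkIdeal_of_notMem (x : C) (hx : x ∉ Set.range z) :
    (stalkIdeal s.ker (c x)).map (c.stalkMap x).hom = ⊤ := by
  obtain ⟨V, hV, hyV, t, -, ht⟩ := RelSect.exists_eqn f s hs (c x)
  rw [← stalkIdeal_comap, ← RelSect.ker_eq_comap hs sq hzc hzp,
    ← RelSect.span_germ_eq hs sq hzc hzp hV ht x hyV, Ideal.span_singleton_eq_top]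
  exact RelSect.isUnit_germ hs sq hzc hzp hV ht x hyV hx

include hs sq hzc hzp in
theorem mem_range_of_apply_mem (x : C) (hx : c x ∈ Set.range s) : x ∈ Set.range z := by
  by_contra hn
  have h1 := map_stalkIdeal_of_notMem hs sq hzc hzp x hn
  have hcl := RelSect.isClosedImmersion_section f s hs
  have h2 : x ∉ (s.ker.comap c).support := by
    rw [notMem_support_iff_stalkIdeal_eq_top, stalkIdeal_comap]
    exact h1
  apply h2
  rw [Scheme.IdealSheafData.support_comap]
  have h4 : (s.ker.support : Set X) = Set.range s := by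
    rw [Scheme.Hom.support_ker, s.isClosedEmbedding.isClosed_range.closure_eq]
  have h5 : c x ∈ (s.ker.support : Set X) := by rw [h4]; exact hx
  exact h5

end Fibre

include hs in
/-- **The class of a section.** -/
theorem exists_cls : ∃ L : HH X (EtCoh.Gm X) 1,
    ∀ (K : Type u) [Field K] (a : Spec (CommRingCat.of K) ⟶ S) (C : Scheme.{u}) [IsIntegral C]
      [IsLocallyNoetherian C] [CompactSpace C] (hC : IsDed C) (c : C ⟶ X)
      (p : C ⟶ Spec (CommRingCat.of K)) (_ : IsPullback c p f a),
      ∃ P : {x : C // x ≠ genericPoint C}, HG c 1 L = DivCls.divCls hC (Finsupp.single P 1) := by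
  have hcl := RelSect.isClosedImmersion_section f s hs
  have hE := RelSect.isEffCartierIdeal_ker f s hs
  let U : X.Opens := ⟨(Set.range s)ᶜ, s.isClosedEmbedding.isClosed_range.isOpen_compl⟩
  have hU : Set.range U.ι = (Set.range s)ᶜ := Scheme.Opens.range_ι _
  have := EffCls.mono_gmUnit hE hU
  obtain ⟨q, hq⟩ := EffCls.exists_sec hE hU
  refine ⟨cls U.ι q, ?_⟩
  intro K _ a C _ _ _ hC c p sq
  let z : Spec (CommRingCat.of K) ⟶ C := sq.lift (a ≫ s) (𝟙 _) (by rw [Category.assoc, hs]; simp)
  have hzc : z ≫ c = a ≫ s := sq.lift_fst _ _ _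
  have hzp : z ≫ p = 𝟙 _ := sq.lift_snd _ _ _
  have hgen : genericPoint C ∉ Set.range z := R2Mu.genericPoint_notMem_range hs sq hzc hzp
  have hgen' : c (genericPoint C) ∉ Set.range s := fun h =>
    hgen (mem_range_of_apply_mem hs sq hzc hzp _ h)
  let P : {x : C // x ≠ genericPoint C} := ⟨z default, fun h => hgen ⟨_, h⟩⟩
  let d : Spec (C.presheaf.stalk (genericPoint C)) ⟶ U.toScheme :=
    IsOpenImmersion.lift U.ι (C.fromSpecStalk (genericPoint C) ≫ c) (by
      rw [Scheme.Opens.range_ι]
      rintro _ ⟨y, rfl⟩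
      have h1 : C.fromSpecStalk (genericPoint C) y ⤳ genericPoint C := by
        have h2 : C.fromSpecStalk (genericPoint C) y ∈
          Set.range (C.fromSpecStalk (genericPoint C)) := ⟨y, rfl⟩
        rw [Scheme.range_fromSpecStalk] at h2
        exact h2
      have h3 : c (C.fromSpecStalk (genericPoint C) y) ⤳ c (genericPoint C) :=
        h1.map c.continuous
      rw [Scheme.Hom.comp_apply]
      exact h3.mem_open U.isOpen hgen')
  have hd : d ≫ U.ι = C.fromSpecStalk (genericPoint C) ≫ c := IsOpenImmersion.lift_fac _ _ _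
  refine ⟨P, ?_⟩
  classical
  refine EffCls.HG_cls_eq hE hU hC c d hd q hq (Finsupp.single P 1)
    (fun x => if x.1 ∈ Set.range z then 1 else 0) ?_ ?_
  · intro x
    rw [Finsupp.single_apply]
    by_cases hx : P = x
    · have : x.1 ∈ Set.range z := by rw [← hx]; exact ⟨_, rfl⟩
      rw [if_pos hx, if_pos this]; rfl
    · have : x.1 ∉ Set.range z := by
        rintro ⟨w, hw⟩
        apply hx
        apply Subtype.ext
        rw [← hw]
        exact congrArg z (Subsingleton.elim _ _)
      rw [if_neg hx, if_neg this]; rfl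
  · intro x
    by_cases hx : x.1 ∈ Set.range z
    · rw [if_pos hx, pow_one]
      exact map_stalkIdeal_of_mem hs sq hzc hzp x.1 hx
    · rw [if_neg hx, pow_zero, Ideal.one_eq_top]
      exact map_stalkIdeal_of_notMem hs sq hzc hzp x.1 hx

end K839.SecCls
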